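import Mathlib
import Groth.Prelude.Def_FlatMod2
import Groth.Agent.SchemeMorphisms.PrinParts.FlatExact
import Groth.Agent.OmegaSheaf.IsoLocal
import Groth.Agent.QCohMod.QCQS
import Groth.Agent.Calg4.FlatClosureDedekind
import Groth.Agent.Ega2Proj.SpanOn

/-!
Flat quotients with a given generic fibre over a one-dimensional regular base.
-/

set_option autoImplicit false

universe u

open CategoryTheory CategoryTheory.Limits AlgebraicGeometry TopologicalSpace
open scoped TensorProduct

namespace Groth.FlatQuot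

open Groth.QCohMod (germ germ_res germ_smul exists_germ res stalkAlg pullGerm pullGerm_germ pullGerm_smul
  pullStalkHom pullStalkHom_tmul pullStalkHom_bijective)
open Groth.OmegaSheaf (stalkApp stalkApp_germ stalk_map_smul)

section Preimmersion

variable {X Z : Scheme.{u}} (ι : Z ⟶ X) [IsPreimmersion ι] [Flat ι]

theorem bijective_stalkMap (z : Z) : Function.Bijective (ι.stalkMap z) := by
  refine ⟨?_, ι.stalkMap_surjective z⟩
  algebraize [(ι.stalkMap z).hom]
  haveI : Module.Flat (X.presheaf.stalk (ι z)) (Z.presheaf.stalk z) := Flat.stalkMap ι z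
  haveI : IsLocalHom (algebraMap (X.presheaf.stalk (ι z)) (Z.presheaf.stalk z)) :=
    inferInstanceAs (IsLocalHom (ι.stalkMap z).hom)
  haveI : Module.FaithfullyFlat (X.presheaf.stalk (ι z)) (Z.presheaf.stalk z) :=
    Module.FaithfullyFlat.of_flat_of_isLocalHom
  exact FaithfulSMul.algebraMap_injective (X.presheaf.stalk (ι z)) (Z.presheaf.stalk z)

theorem bijective_pullGerm (M : X.Modules) (z : Z) : Function.Bijective (pullGerm ι M z) := by
  let _ := stalkAlg ι z
  let e : X.presheaf.stalk (ι z) ≃ₗ[X.presheaf.stalk (ι z)] Z.presheaf.stalk z :=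
    LinearEquiv.ofBijective (Algebra.linearMap _ _) (bijective_stalkMap ι z)
  let g : M.presheaf.stalk (ι z) ≃ₗ[X.presheaf.stalk (ι z)]
      Z.presheaf.stalk z ⊗[X.presheaf.stalk (ι z)] M.presheaf.stalk (ι z) :=
    (TensorProduct.lid _ _).symm ≪≫ₗ TensorProduct.congr e (LinearEquiv.refl _ _)
  have h : ⇑(pullGerm ι M z) = fun t => pullStalkHom ι M z (g t) := by
    funext t
    simp [g, e, pullStalkHom_tmul]
  rw [h]
  exact (pullStalkHom_bijective ι M z).comp g.bijective

/-- The counit of a flat preimmersion is a monomorphism. -/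
theorem mono_counit (N : Z.Modules) :
    Mono ((Scheme.Modules.pullbackPushforwardAdjunction ι).counit.app N) := by
  rw [Groth.QCohMod.mono_iff_stalk]
  intro z
  let cu : (Scheme.Modules.pullback ι).obj ((Scheme.Modules.pushforward ι).obj N) ⟶ N :=
    (Scheme.Modules.pullbackPushforwardAdjunction ι).counit.app N
  let ps := (TopCat.Presheaf.stalkPushforward AddCommGrpCat.{u} ι.base N.presheaf z).hom
  haveI : IsIso (TopCat.Presheaf.stalkPushforward AddCommGrpCat.{u} ι.base N.presheaf z) :=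
    TopCat.Presheaf.stalkPushforward.stalkPushforward_iso_of_isInducing AddCommGrpCat.{u}
      ι.isEmbedding.isInducing N.presheaf z
  have hps : Function.Injective ps := (ConcreteCategory.bijective_of_isIso
    (TopCat.Presheaf.stalkPushforward AddCommGrpCat.{u} ι.base N.presheaf z)).1
  have key : ∀ t, stalkApp cu z (pullGerm ι ((Scheme.Modules.pushforward ι).obj N) z t) = ps t := by
    intro t
    obtain ⟨W, hW, m, rfl⟩ := exists_germ ((Scheme.Modules.pushforward ι).obj N) (ι z) t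
    rw [pullGerm_germ, stalkApp_germ,
      show cu.app (ι ⁻¹ᵁ W) (Groth.PicAux.pullSec ι ((Scheme.Modules.pushforward ι).obj N) m) = m from
        Groth.Ega2Proj.counit_pullSec ι N W m]
    exact congr($(TopCat.Presheaf.stalkPushforward_germ AddCommGrpCat.{u} ι.base N.presheaf W z hW) m).symm
  intro a b hab
  obtain ⟨a, rfl⟩ := (bijective_pullGerm ι _ z).2 a
  obtain ⟨b, rfl⟩ := (bijective_pullGerm ι _ z).2 b
  change stalkApp cu z _ = stalkApp cu z _ at hab
  rw [key, key] at hab
  exact congrArg _ (hps hab)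

end Preimmersion

variable {X Y : Scheme.{u}} [IsIntegral Y] (f : X ⟶ Y)

/-- The generic fibre. -/
local notation "ι" => Scheme.Hom.fiberι f (genericPoint Y)

instance flat_fiberι : Flat (Scheme.Hom.fiberι f (genericPoint Y)) :=
  inferInstanceAs (Flat (pullback.fst _ _))

instance quasiCompact_fiberι : QuasiCompact (Scheme.Hom.fiberι f (genericPoint Y)) :=
  inferInstanceAs (QuasiCompact (pullback.fst _ _))

instance quasiSeparated_fiberι : QuasiSeparated (Scheme.Hom.fiberι f (genericPoint Y)) :=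
  inferInstanceAs (QuasiSeparated (pullback.fst _ _))

/-- No torsion over the base. -/
def NoTorsion (G : X.Modules) : Prop :=
  ∀ (x : X) (a : Y.presheaf.stalk (f x)) (t : G.presheaf.stalk x), a ≠ 0 → f.stalkMap x a • t = 0 → t = 0

theorem noTorsion_of_isFlatOver {G : X.Modules} (h : FlatMod.IsFlatOver f G) : NoTorsion f G := by
  intro x a t ha hat
  letI := FlatMod.moduleStalkOver f G x
  haveI : Module.Flat (Y.presheaf.stalk (f x)) (G.presheaf.stalk x) := h x
  exact Module.Flat.isSMulRegular_of_nonZeroDivisors (mem_nonZeroDivisors_of_ne_zero ha)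
    ((show a • t = 0 from hat).trans (smul_zero a).symm)

theorem noTorsion_of_mono {G H : X.Modules} (m : G ⟶ H) [hm : Mono m] (h : NoTorsion f H) :
    NoTorsion f G := by
  intro x a t ha hat
  apply (Groth.QCohMod.mono_iff_stalk m).1 hm x
  change stalkApp m x t = stalkApp m x 0
  rw [map_zero]
  exact h x a _ ha (by rw [← stalk_map_smul, hat, map_zero])

theorem isFlatOver_of_noTorsion [IsLocallyNoetherian Y]
    (hY : ∀ y : Y, IsRegularLocalRing (Y.presheaf.stalk y) ∧ ringKrullDim (Y.presheaf.stalk y) ≤ 1)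
    {G : X.Modules} (h : NoTorsion f G) : FlatMod.IsFlatOver f G := by
  intro x
  show @Module.Flat _ _ _ _ (FlatMod.moduleStalkOver f G x)
  letI := FlatMod.moduleStalkOver f G x
  haveI := (hY (f x)).1
  haveI := Groth.Flatmor4.isBezout_of_regular_dim_le_one (hY (f x)).2
  refine Module.Flat.flat_iff_torsion_eq_bot_of_isBezout.2 ?_
  rw [Submodule.eq_bot_iff]
  rintro t ⟨⟨a, ha⟩, hat⟩
  exact h x a t (nonZeroDivisors.ne_zero ha) hat

theorem fiberι_apply (z : f.fiber (genericPoint Y)) : f (ι z) = genericPoint Y := by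
  have : ι z ∈ f ⁻¹' {genericPoint Y} := by
    rw [← Scheme.Hom.range_fiberι]; exact ⟨_, rfl⟩
  exact this

theorem noTorsion_pushforward (N : (f.fiber (genericPoint Y)).Modules) :
    NoTorsion f ((Scheme.Modules.pushforward ι).obj N) := by
  intro x a t ha hat
  obtain ⟨W, hW, s, rfl⟩ := exists_germ ((Scheme.Modules.pushforward ι).obj N) x t
  obtain ⟨V, hV, α, rfl⟩ := TopCat.Presheaf.exists_germ_eq Y.presheaf a
  have hα : α ≠ 0 := fun h => ha (by rw [h, map_zero])
  have hW' : x ∈ W ⊓ f ⁻¹ᵁ V := ⟨hW, hV⟩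
  rw [Scheme.Hom.germ_stalkMap_apply,
    ← TopCat.Presheaf.germ_res_apply X.presheaf (homOfLE (inf_le_right : W ⊓ f ⁻¹ᵁ V ≤ _)) x hW',
    ← germ_res _ (inf_le_left : W ⊓ f ⁻¹ᵁ V ≤ W) x hW', ← germ_smul] at hat
  set s' := res ((Scheme.Modules.pushforward ι).obj N) (inf_le_left : W ⊓ f ⁻¹ᵁ V ≤ W) s with hs'
  set r := X.presheaf.map (homOfLE (inf_le_right : W ⊓ f ⁻¹ᵁ V ≤ _)).op (f.app V α) with hr
  obtain ⟨O, hxO, i, i', hO⟩ := TopCat.Presheaf.germ_eq ((Scheme.Modules.pushforward ι).obj N).presheaf x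
    hW' hW' (r • s') 0 (hat.trans (map_zero (germ _ x hW')).symm)
  have hzero : res ((Scheme.Modules.pushforward ι).obj N) i.le (r • s') = 0 := hO.trans (map_zero _)
  let r' := X.presheaf.map (homOfLE i.le).op r
  let s'' : Γ(N, ι ⁻¹ᵁ O) := res ((Scheme.Modules.pushforward ι).obj N) i.le s'
  have hsm : ((Scheme.Hom.app ι O) r') • s'' = 0 :=
    (Scheme.Modules.map_smul ((Scheme.Modules.pushforward ι).obj N) (homOfLE i.le) r s').symm.trans hzero
  have hu : IsUnit ((Scheme.Hom.app ι O) r') := by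
    refine LocallyRingedSpace.toRingedSpace (f.fiber (genericPoint Y)).toLocallyRingedSpace
      |>.isUnit_of_isUnit_germ (ι ⁻¹ᵁ O) _ fun z hz => ?_
    rw [← Scheme.mem_basicOpen, ← Scheme.preimage_basicOpen]
    show ι z ∈ X.basicOpen r'
    simp only [r', r, Scheme.basicOpen_res]
    refine ⟨hz, i.le hz, ?_⟩
    rw [← Scheme.preimage_basicOpen]
    show f (ι z) ∈ Y.basicOpen α
    rw [fiberι_apply]
    refine ((genericPoint_spec Y).mem_open_set_iff (Y.basicOpen α).isOpen).mpr ?_
    rw [Set.univ_inter, Set.nonempty_iff_ne_empty]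
    intro h
    have h' : Y.basicOpen α = ⊥ := Opens.ext h
    rw [basicOpen_eq_bot_iff] at h'
    exact hα h'
  rw [← germ_res _ (inf_le_left : W ⊓ f ⁻¹ᵁ V ≤ W) x hW', ← germ_res _ i.le x hxO]
  refine (congrArg (germ _ x hxO) (?_ : res _ i.le s' = 0)).trans (map_zero _)
  exact (hu.smul_eq_zero (x := s'')).1 hsm

/-- Germs vanishing at the generic fibre are torsion. -/
theorem exists_torsion (G : X.Modules) [G.IsQuasicoherent] {V : Y.Opens} [Nonempty V] (hV : IsAffineOpen V)
    {W : X.Opens} (hW : IsAffineOpen W) (hWV : W ≤ f ⁻¹ᵁ V) (s : Γ(G, W))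
    (h : ∀ x' (hx' : x' ∈ W), f x' = genericPoint Y → germ G x' hx' s = 0) :
    ∃ α : Γ(Y, V), α ≠ 0 ∧ f.appLE V W hWV α • s = 0 := by
  let φ := (f.appLE V W hWV).hom
  let I : Ideal Γ(X, W) := Ideal.torsionOf Γ(X, W) Γ(G, W) s
  by_contra hcon
  push Not at hcon
  have hdisj : Disjoint (I : Set Γ(X, W)) ((nonZeroDivisors Γ(Y, V)).map φ.toMonoidHom) := by
    rw [Set.disjoint_left]
    rintro _ hI ⟨α, hα, rfl⟩
    exact hcon α (nonZeroDivisors.ne_zero hα) hI
  obtain ⟨P, hP, hIP, hPdisj⟩ := Ideal.exists_le_prime_disjoint I _ hdisj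
  let x' := hW.fromSpec ⟨P, hP⟩
  have hx' : x' ∈ W := hW.range_fromSpec.le ⟨_, rfl⟩
  have hbasic : ∀ b, x' ∈ X.basicOpen b ↔ b ∉ P := fun b => by
    show ⟨P, hP⟩ ∈ hW.fromSpec ⁻¹ᵁ X.basicOpen b ↔ _
    rw [hW.fromSpec_preimage_basicOpen]
    rfl
  have hη : f x' = genericPoint Y := by
    refine ((genericPoint_spec Y).specializes (Set.mem_univ (f x'))).antisymm ?_ |>.symm.eq
    refine specializes_iff_forall_open.2 fun O hO hηO => ?_
    have hηV : genericPoint Y ∈ V :=
      ((genericPoint_spec Y).specializes (Set.mem_univ (f x'))).mem_open V.2 (hWV hx')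
    obtain ⟨α, hαO, hαη⟩ := hV.exists_basicOpen_le (V := ⟨O, hO⟩) ⟨_, hηO⟩ hηV
    have hα : α ≠ 0 := by
      rintro rfl
      rw [Scheme.basicOpen_zero] at hαη
      exact hαη
    refine hαO (show f x' ∈ Y.basicOpen α from ?_)
    have h1 : x' ∈ X.basicOpen (φ α) := (hbasic _).2 fun hmem =>
      Set.disjoint_left.1 hPdisj hmem ⟨α, mem_nonZeroDivisors_of_ne_zero hα, rfl⟩
    rw [show X.basicOpen (φ α) = W ⊓ X.basicOpen (f.app V α) from Scheme.basicOpen_res _ _ _,
      ← Scheme.preimage_basicOpen] at h1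
    exact h1.2
  obtain ⟨b, hb, hbs⟩ := Groth.QCohMod.exists_smul_eq_zero_of_germ_eq_zero G hW x' hx' s (h x' hx' hη)
  exact (hbasic b).1 hb (hIP hbs)

/-- The unit at a module without torsion is a monomorphism. -/
theorem mono_unit (G : X.Modules) [G.IsQuasicoherent] (hG : NoTorsion f G) :
    Mono ((Scheme.Modules.pullbackPushforwardAdjunction ι).unit.app G) := by
  rw [Groth.QCohMod.mono_iff_stalk]
  intro x
  rw [injective_iff_map_eq_zero]
  intro t ht
  obtain ⟨U, hU, s, rfl⟩ := exists_germ G x t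
  let un : G ⟶ (Scheme.Modules.pushforward ι).obj ((Scheme.Modules.pullback ι).obj G) :=
    (Scheme.Modules.pullbackPushforwardAdjunction ι).unit.app G
  change stalkApp un x _ = 0 at ht
  rw [stalkApp_germ] at ht
  obtain ⟨O, hxO, i, i', hO⟩ := TopCat.Presheaf.germ_eq
    ((Scheme.Modules.pushforward ι).obj ((Scheme.Modules.pullback ι).obj G)).presheaf x hU hU _ 0
    (ht.trans (map_zero (germ _ x hU)).symm)
  obtain ⟨_, ⟨V, hV, rfl⟩, hxV, -⟩ :=
    Y.isBasis_affineOpens.exists_subset_of_mem_open (Set.mem_univ (f x)) isOpen_univ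
  obtain ⟨_, ⟨W, hW, rfl⟩, hxW, hWO⟩ :=
    X.isBasis_affineOpens.exists_subset_of_mem_open (show x ∈ (O ⊓ f ⁻¹ᵁ V : X.Opens) from ⟨hxO, hxV⟩)
      (O ⊓ f ⁻¹ᵁ V).2
  have hWU : W ≤ U := le_trans (le_trans hWO inf_le_left) i.le
  let s' := res G hWU s
  have hgen : ∀ x' (hx' : x' ∈ W), f x' = genericPoint Y → germ G x' hx' s' = 0 := by
    intro x' hx' hfx'
    obtain ⟨z, rfl⟩ : x' ∈ Set.range ι := by
      rw [Scheme.Hom.range_fiberι]; exact hfx'
    apply (bijective_pullGerm ι G z).1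
    rw [map_zero, germ_res, pullGerm_germ]
    have hz : z ∈ ι ⁻¹ᵁ O := (hWO hx').1
    rw [← germ_res _ (Scheme.Hom.preimage_mono ι i.le) z hz]
    exact (congrArg (germ _ z hz) (hO.trans (map_zero _))).trans (map_zero _)
  haveI : Nonempty V := ⟨⟨_, hxV⟩⟩
  obtain ⟨α, hα, hαs⟩ := exists_torsion f G hV hW (hWO.trans inf_le_right) s' hgen
  have hz := congrArg (germ G x hxW) hαs
  rw [germ_smul, map_zero, germ_res] at hz
  refine hG x (Y.presheaf.germ V (f x) hxV α) _ ?_ ?_
  · intro h0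
    exact hα (germ_injective_of_isIntegral Y (f x) hxV (h0.trans (map_zero _).symm))
  · rw [Scheme.Hom.germ_stalkMap_apply]
    convert hz using 2
    rw [Scheme.Hom.appLE, CommRingCat.comp_apply]
    exact (TopCat.Presheaf.germ_res_apply X.presheaf _ x hxW _).symm

end Groth.FlatQuot
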