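import Groth.Agent.Calg4.MonoFactor.Over
import Groth.Agent.AlgSp2.UnramMono
import Groth.Agent.AlgSp2.FppfSource
import Groth.Agent.AlgSpFppf.QuotSpace
import Groth.Agent.S10103

/-!
A morphism locally of finite type whose self fibre product has fppf projections factors as an fppf
surjection followed by a monomorphism (no finite presentation needed on the morphism itself).
-/

set_option autoImplicit false
set_option linter.style.haveILetI false
set_option backward.isDefEq.respectTransparency.types false

universe u

open CategoryTheory CategoryTheory.Limits AlgebraicGeometry Opposite AlgSp TopologicalSpace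
open Groth.AlgSpBasic

namespace Groth.FlatQuot

variable {A Y : Scheme.{u}}

theorem exists_factor (π : A ⟶ Y) [LocallyOfFiniteType π] [Flat (pullback.fst π π)]
    [LocallyOfFinitePresentation (pullback.fst π π)] :
    ∃ (X' : Scheme.{u}) (p : A ⟶ X') (h : X' ⟶ Y), p ≫ h = π ∧ Mono h ∧ Surjective p ∧ Flat p ∧
      LocallyOfFinitePresentation p := by
  let Q₀ : Over Y := Over.mk π
  let T₁ : Over Y := Over.mk (𝟙 Y)
  let R : Over Y := Over.mk (pullback.fst π π ≫ π)
  let t : R ⟶ Q₀ := Over.homMk (pullback.fst π π) rfl
  let s : R ⟶ Q₀ := Over.homMk (pullback.snd π π) pullback.condition.symm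
  let q₀ : Q₀ ⟶ T₁ := Over.homMk π (Category.comp_id π)
  have sq : IsPullback t s q₀ q₀ := IsPullback.of_map (Over.forget Y)
    (Over.OverMorphism.ext pullback.condition) (IsPullback.of_hasPullback π π)
  have sqY := sq.map (yon Y)
  have heq : IsEqvRel s t := isEqvRel_of_isPullback sqY
  let F : Sp Y := QuotSh.quot Scheme.fppfPrecoverage s t
  let pi : (yon Y).obj Q₀ ⟶ F := yonQuotπ s t
  have hls : Sheaf.IsLocallySurjective pi := isLocallySurjective_yonQuotπ s t
  have : Flat t.left := inferInstanceAs (Flat (pullback.fst π π))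
  have : LocallyOfFinitePresentation t.left :=
    inferInstanceAs (LocallyOfFinitePresentation (pullback.fst π π))
  have : Flat s.left := by
    show Flat (pullback.snd π π)
    rw [← pullbackSymmetry_hom_comp_fst π π]; infer_instance
  have : LocallyOfFinitePresentation s.left := by
    show LocallyOfFinitePresentation (pullback.snd π π)
    rw [← pullbackSymmetry_hom_comp_fst π π]; infer_instance
  have hts : Surjective t.left := by
    refine ⟨fun x => ⟨pullback.lift (f := π) (g := π) (𝟙 _) (𝟙 _) rfl x, ?_⟩⟩
    show pullback.fst π π _ = x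
    rw [← Scheme.Hom.comp_apply, pullback.lift_fst]
    rfl
  have hF : IsAlgSpace F := Groth.Agent.S10103.result Y s t heq
  obtain ⟨q, hq⟩ := Cofork.IsColimit.desc' (isColimitYonQuot s t) ((yon Y).map q₀) sqY.w
  have hq' : pi ≫ q = (yon Y).map q₀ := hq
  have : Mono q := by
    refine ⟨fun {B} a b e => ?_⟩
    have hA := IsPullback.of_hasPullback a pi
    have : Sheaf.IsLocallySurjective (pullback.fst a pi) := isLocallySurjective_of_isPullback hA.flip
    have : Epi (pullback.fst a pi) := inferInstance
    rw [← cancel_epi (pullback.fst a pi)]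
    let b' := pullback.fst a pi ≫ b
    have hB := IsPullback.of_hasPullback b' pi
    have : Sheaf.IsLocallySurjective (pullback.fst b' pi) := isLocallySurjective_of_isPullback hB.flip
    have : Epi (pullback.fst b' pi) := inferInstance
    rw [← cancel_epi (pullback.fst b' pi)]
    have h1 : pullback.fst b' pi ≫ pullback.fst a pi ≫ a =
        (pullback.fst b' pi ≫ pullback.snd a pi) ≫ pi := by
      rw [Category.assoc, pullback.condition]
    have h2 : pullback.fst b' pi ≫ pullback.fst a pi ≫ b = pullback.snd b' pi ≫ pi :=
      pullback.condition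
    have hw : (pullback.fst b' pi ≫ pullback.snd a pi) ≫ (yon Y).map q₀ =
        pullback.snd b' pi ≫ (yon Y).map q₀ := by
      rw [← hq']
      refine (Category.assoc _ pi q).symm.trans (Eq.trans ?_ (Category.assoc _ pi q))
      refine (congrArg (· ≫ q) h1).symm.trans (Eq.trans ?_ (congrArg (· ≫ q) h2))
      simp only [Category.assoc, e]
    rw [h1, h2, ← sqY.lift_fst _ _ hw, Category.assoc, (isPullback_yonQuot heq).w, ← Category.assoc,
      sqY.lift_snd]
  have hrep : Representable pi := representable_of_diag hF.diag pi
  have hπf : RepWith @Flat pi := repWith_of_isLocallySurjective pi hrep pi _ _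
    (isPullback_yonQuot heq).flip ((repWith_yon_map_iff _ t).2 inferInstance)
  have hπp : RepWith @LocallyOfFinitePresentation pi := repWith_of_isLocallySurjective pi hrep pi _ _
    (isPullback_yonQuot heq).flip ((repWith_yon_map_iff _ t).2 inferInstance)
  have hπs : RepWith @Surjective pi := repWith_of_isLocallySurjective pi hrep pi _ _
    (isPullback_yonQuot heq).flip ((repWith_yon_map_iff _ t).2 hts)
  have hl : LocP @LocallyOfFiniteType q := by
    refine (Groth.AlgSp2.fppf_comp (IsAlgSpace.yon_obj Q₀) hF (IsAlgSpace.yon_obj T₁) pi q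
      (surjective_map_of_repWith hπs) (locP_of_repWith hπf) (locP_of_repWith hπp)).1.2 ?_
    rw [hq']
    exact locP_of_repWith ((repWith_yon_map_iff _ q₀).2 (inferInstance : LocallyOfFiniteType π))
  obtain ⟨hr, -, -⟩ := Groth.AlgSp2.representable_of_mono_lft hF (IsAlgSpace.yon_obj T₁) hl
  obtain ⟨X', snd, fst, sq'⟩ := hr ((yon Y).map (𝟙 T₁))
  have : IsIso fst := sq'.isIso_fst_of_isIso
  obtain ⟨p, hp⟩ := (yon Y).map_surjective (pi ≫ inv fst)
  have hpp : ∀ (P : MorphismProperty Scheme.{u}) [P.IsStableUnderBaseChange]
      [P.IsStableUnderComposition] [P.RespectsIso], (∀ {A B : Scheme.{u}} (g : A ⟶ B) [IsIso g], P g) →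
      RepWith P pi → P p.left := by
    intro P _ _ _ hid h
    haveI : P.ContainsIdentities := ⟨fun A => hid (𝟙 A)⟩
    refine (repWith_yon_map_iff P p).1 ?_
    rw [hp]
    exact repWith_comp h (repWith_isIso _)
  have : Mono snd := by
    refine (yon Y).mono_of_mono_map ?_
    have h1 : (yon Y).map snd = fst ≫ q := by
      rw [sq'.w, CategoryTheory.Functor.map_id, Category.comp_id]
    rw [h1]
    infer_instance
  have hm : Mono snd.left := inferInstanceAs (Mono ((Over.forget Y).map snd))
  have hX : X'.hom = snd.left := by
    have := Over.w snd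
    simp only [T₁, Over.mk_hom] at this
    rw [← this]; exact Category.comp_id _
  exact ⟨X'.left, p.left, X'.hom, Over.w p, hX ▸ hm, hpp _ (fun _ _ => inferInstance) hπs, hpp _ (fun _ _ => inferInstance) hπf,
    hpp _ (fun _ _ => inferInstance) hπp⟩

end Groth.FlatQuot
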