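import Groth.Agent.FlatQuot.Factor
import Groth.Prelude.Def_RedSub

/-!
Quotients of flat locally finitely presented stabilisers and kernels, without finite type
assumptions on the target when the base is locally Noetherian.
-/

set_option autoImplicit false
set_option linter.style.haveILetI false
set_option backward.isDefEq.respectTransparency.types false

universe u

open CategoryTheory MonoidalCategory CartesianMonoidalCategory MonObj GrpObj AlgebraicGeometry
  CategoryTheory.Limits

namespace Groth.FlatQuot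

open Groth.Calg4.MonoFactor

variable {S : Scheme.{u}}

/-- Factorisation over `S` from a kernel pair with fppf projection. -/
theorem exists_over_factor {A B P : Over S} (f : A ⟶ B) [LocallyOfFinitePresentation A.hom]
    {p₁ p₂ : P ⟶ A} (h : IsPullback p₁ p₂ f f) (hp : Flat p₁.left)
    (hp' : LocallyOfFinitePresentation p₁.left) :
    ∃ (Q : Over S) (p : A ⟶ Q) (i : Q ⟶ B), p ≫ i = f ∧ Surjective p.left ∧ Flat p.left ∧
      LocallyOfFinitePresentation p.left ∧ Mono i ∧ LocallyOfFinitePresentation Q.hom ∧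
      IsPullback p₁ p₂ p p := by
  have : LocallyOfFiniteType (f.left ≫ B.hom) := by rw [Over.w]; infer_instance
  have : LocallyOfFiniteType f.left := locallyOfFiniteType_of_comp f.left B.hom
  have h' : IsPullback p₁.left p₂.left f.left f.left := h.map (Over.forget S)
  have : Flat (pullback.fst f.left f.left) := by
    rw [← h'.isoPullback_inv_fst]
    exact MorphismProperty.comp_mem @Flat _ _ inferInstance hp
  have : LocallyOfFinitePresentation (pullback.fst f.left f.left) := by
    rw [← h'.isoPullback_inv_fst]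
    exact MorphismProperty.comp_mem @LocallyOfFinitePresentation _ _ inferInstance hp'
  obtain ⟨X', g, j, hgj, hm, hs, hf, hl⟩ := exists_factor f.left
  let Q : Over S := Over.mk (j ≫ B.hom)
  let p : A ⟶ Q := Over.homMk g (by
    show g ≫ j ≫ B.hom = A.hom
    rw [← Category.assoc, hgj, Over.w])
  let i : Q ⟶ B := Over.homMk j rfl
  have hi : Mono i := by
    have : Mono ((Over.forget S).map i) := hm
    exact (Over.forget S).mono_of_mono_map this
  have hpi : p ≫ i = f := Over.OverMorphism.ext hgj
  have hQ : LocallyOfFinitePresentation Q.hom := by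
    have : LocallyOfFinitePresentation (g ≫ Q.hom) := by
      show LocallyOfFinitePresentation (g ≫ j ≫ B.hom)
      rw [← Category.assoc, hgj, Over.w]; infer_instance
    exact Groth.GitQuot.FppfSource.locallyOfFinitePresentation_of_fppf g Q.hom
  refine ⟨Q, p, i, hpi, hs, hf, hl, hi, hQ, isPullback_of_comp_mono i ?_⟩
  rw [hpi]
  exact h

variable {G X : Over S} [GrpObj G] [LocallyOfFinitePresentation G.hom]

omit [GrpObj G] in
/-- A stabiliser (fibre of a map over a section) is locally of finite presentation over the base. -/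
theorem lfp_stabilizer (hX : LocallyOfFiniteType X.hom ∨ IsLocallyNoetherian S) {H : Over S}
    (u : G ⟶ X) (ξ : 𝟙_ (Over S) ⟶ X) {i : H ⟶ G} (h : IsPullback i (toUnit H) u ξ) :
    LocallyOfFinitePresentation H.hom := by
  have hw : ξ.left ≫ X.hom = 𝟙 S := Over.w ξ
  haveI : IsOpenImmersion (ξ.left ≫ X.hom) := hw ▸ (inferInstanceAs (IsOpenImmersion (Iso.refl S).hom))
  haveI : LocallyOfFiniteType (ξ.left ≫ X.hom) := inferInstance
  haveI : LocallyOfFiniteType ξ.left := locallyOfFiniteType_of_comp ξ.left X.hom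
  rw [← Over.w i]
  rcases hX with hX | hS
  · haveI : LocallyOfFinitePresentation (ξ.left ≫ X.hom) := inferInstance
    haveI := Groth.SpectralTopology.lfp_of_comp ξ.left X.hom
    haveI : LocallyOfFinitePresentation i.left :=
      MorphismProperty.of_isPullback (h.map (Over.forget S)).flip
        (inferInstanceAs (LocallyOfFinitePresentation ξ.left))
    infer_instance
  · haveI : LocallyOfFiniteType i.left :=
      MorphismProperty.of_isPullback (h.map (Over.forget S)).flip
        (inferInstanceAs (LocallyOfFiniteType ξ.left))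
    haveI : LocallyOfFiniteType (i.left ≫ G.hom) := inferInstance
    exact inferInstanceAs (LocallyOfFinitePresentation (i.left ≫ G.hom))

theorem orbit_quotient (hX : LocallyOfFiniteType X.hom ∨ IsLocallyNoetherian S)
    (a : AlgGrp.Action G X) (ξ : 𝟙_ (Over S) ⟶ X) {H : Over S} (i : H ⟶ G)
    (hH : IsPullback i (toUnit H) (a.orbitMap ξ) ξ) (hf : Flat H.hom) :
    ∃ (Q : Over S) (q : G ⟶ Q), RedSub.IsQuotient i q ∧ LocallyOfFinitePresentation Q.hom ∧
      ∃ m : Q ⟶ X, Mono m ∧ q ≫ m = a.orbitMap ξ := by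
  obtain ⟨Q, p, m, h1, h2, h3, h4, h5, h6, h7⟩ := exists_over_factor (a.orbitMap ξ)
    (isPullback_orbit a ξ hH) (fst_left_prop @Flat G hf)
    (fst_left_prop @LocallyOfFinitePresentation G (lfp_stabilizer hX _ ξ hH))
  exact ⟨Q, p, ⟨h2, h3, h4, h7⟩, h6, m, h5, h1⟩

theorem kernel_quotient {H : Over S} [GrpObj H]
    (hH : LocallyOfFiniteType H.hom ∨ IsLocallyNoetherian S) (u : G ⟶ H) [IsMonHom u]
    {K : Over S} (k : K ⟶ G) (hk : IsPullback k (toUnit K) u η[H]) (hK : Flat K.hom) :
    ∃ (Q : Over S) (_ : GrpObj Q) (q : G ⟶ Q) (_ : IsMonHom q), RedSub.IsQuotient k q ∧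
      LocallyOfFinitePresentation Q.hom ∧ ∃ (m : Q ⟶ H) (_ : IsMonHom m), Mono m ∧ q ≫ m = u := by
  have hkone : k ≫ u = 1 := by rw [hk.w, Hom.one_def]
  have hμ : (G ◁ k) ≫ μ[G] = fst G K * (snd G K ≫ k) := by
    rw [Hom.mul_def]; congr 1
  have hsq : IsPullback (fst G K) ((G ◁ k) ≫ μ[G]) u u := by
    have hm : Mono k := ⟨fun g h e => hk.hom_ext e (toUnit_unique _ _)⟩
    have w : fst G K ≫ u = ((G ◁ k) ≫ μ[G]) ≫ u := by
      rw [hμ, MonObj.mul_comp, Category.assoc, hkone, MonObj.comp_one, _root_.mul_one]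
    refine ⟨⟨w⟩, ⟨PullbackCone.IsLimit.mk w (fun s => lift s.fst (hk.lift (s.fst⁻¹ * s.snd)
      (toUnit s.pt) ?_)) (fun s => by simp) ?_ ?_⟩⟩
    · rw [MonObj.mul_comp, GrpObj.inv_comp, s.condition, inv_mul_cancel, Hom.one_def]
    · intro s
      rw [hμ, MonObj.comp_mul]
      simp
    · intro s m h₁ h₂
      apply CartesianMonoidalCategory.hom_ext
      · simpa using h₁
      · rw [lift_snd, ← cancel_mono k, IsPullback.lift_fst, ← h₂, hμ, MonObj.comp_mul, h₁]
        simp
  obtain ⟨Q, p, i, hpi, hs, hf, hl, hi, hQ, hsq'⟩ :=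
    exists_over_factor u hsq (fst_left_prop @Flat G hK)
      (fst_left_prop @LocallyOfFinitePresentation G (lfp_stabilizer hH u η[H] hk))
  have := tensorHom_left_prop @Flat (f := p) (g := p) hf hf
  have := tensorHom_left_prop @Surjective (f := p) (g := p) hs hs
  have := tensorHom_left_prop @LocallyOfFinitePresentation (f := p) (g := p) hl hl
  obtain ⟨m, hm⟩ := exists_over_desc (p ⊗ₘ p) ((i ⊗ₘ i) ≫ μ[H]) (μ[G] ≫ p) i (by
    rw [← Category.assoc, tensorHom_comp_tensorHom, hpi, Category.assoc, hpi, IsMonHom.mul_hom])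
  obtain ⟨iv, hiv⟩ := exists_over_desc p (i ≫ ι[H]) (ι[G] ≫ p) i (by
    rw [← Category.assoc, hpi, Category.assoc, hpi, GrpObj.inv_hom])
  have hone : (η[G] ≫ p) ≫ i = η[H] := by rw [Category.assoc, hpi, IsMonHom.one_hom]
  letI mon : MonObj Q :=
    { one := η[G] ≫ p
      mul := m
      one_mul := by
        rw [← cancel_mono i, Category.assoc, hm, ← Category.assoc, whiskerRight_comp_tensorHom,
          hone, MonoidalCategory.tensorHom_def', Category.assoc, MonObj.one_mul,
          leftUnitor_naturality]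
      mul_one := by
        rw [← cancel_mono i, Category.assoc, hm, ← Category.assoc, whiskerLeft_comp_tensorHom,
          hone, MonoidalCategory.tensorHom_def, Category.assoc, MonObj.mul_one,
          rightUnitor_naturality]
      mul_assoc := by
        rw [← cancel_mono i]
        simp only [Category.assoc, hm]
        rw [whiskerLeft_comp_tensorHom_assoc, whiskerRight_comp_tensorHom_assoc, hm]
        rw [← tensorHom_comp_whiskerRight_assoc, ← tensorHom_comp_whiskerLeft_assoc,
          MonObj.mul_assoc, associator_naturality_assoc] }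
  have hi1 : IsMonHom i := ⟨hone, hm⟩
  have hp1 : IsMonHom p := ⟨rfl, by
    rw [← cancel_mono i, Category.assoc, Category.assoc]
    show μ[G] ≫ p ≫ i = (p ⊗ₘ p) ≫ m ≫ i
    rw [hm, ← Category.assoc (p ⊗ₘ p),
      tensorHom_comp_tensorHom, hpi, IsMonHom.mul_hom]⟩
  letI grp : GrpObj Q :=
    { mon with
      inv := iv
      left_inv := by
        rw [← cancel_mono i, Category.assoc, IsMonHom.mul_hom, lift_map_assoc, hiv, Category.id_comp]
        rw [show lift (i ≫ ι[H]) i = i ≫ lift ι[H] (𝟙 H) by simp [comp_lift], Category.assoc,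
          GrpObj.left_inv, Category.assoc, IsMonHom.one_hom, comp_toUnit_assoc]
      right_inv := by
        rw [← cancel_mono i, Category.assoc, IsMonHom.mul_hom, lift_map_assoc, hiv, Category.id_comp]
        rw [show lift i (i ≫ ι[H]) = i ≫ lift (𝟙 H) ι[H] by simp [comp_lift], Category.assoc,
          GrpObj.right_inv, Category.assoc, IsMonHom.one_hom, comp_toUnit_assoc] }
  exact ⟨Q, grp, p, hp1, ⟨hs, hf, hl, hsq'⟩, hQ, i, hi1, hi, hpi⟩

end Groth.FlatQuot
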